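import Cfsg.Agent.Lib.TC.Enc

namespace Cfsg.Agent.Lib.CosetCert.D.OnM11.Lv1.CT

open Cfsg.Agent.Lib.TC.Enc

set_option maxRecDepth 100000

/-- The chunks of the certificate. -/
noncomputable def tree : Tr Nat :=
  (Tr.leaf (nat_lit 0x16c00923628e45e905db8b3238c5a00248d7a1918a2176a1569234600092663896248f2e28359882150024886df4471ecb5dfd655e848009265d783dd752de73592729100249945a8161ad251b867db444009266491623875e074591684e00249981d9481dd73994c759b3000926617c60c593995a29c5c8c002499315d885f80922896d7f2c00920d75260b51023841ce548b0024992d2c55d317716d3353928009265f6c44f485ca47022810a00249965358694d78601629172400926545e6093f3924028c428900249924f425180e55c0085e4240092655615565d5df6f5893bc8e498800249820e4002480024a20009264837bc8635d641020714700248d3cd007da571ccc0799c1c009220d2d10e2b2cb2f5872a460024996125844d57189cc3ca31400926502c6052501d6459a5585002499148d840b9034c56653d14009201c5801b565c5215964304002480694006529740c16107f0c00920c61c6031b01846017444300248058f8054f170c64050e908009201338012365c21630817c1002483084d80448044c8040a40400922040f60a1d00f265810e0000248038900348803081600320c009264308606106c00900b1e0200248028680101c024616081a00009264004607140081500305c00024801c4580005a04080183400009200100002035c40a0050b))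

end Cfsg.Agent.Lib.CosetCert.D.OnM11.Lv1.CT
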